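import Groth.Prelude.Def_TwC
import Groth.Prelude.Def_CGrpSh2
import Groth.Agent.Lib.RedPts.BC
import Groth.Agent.H4.Biext.LocalSplit

/-!
# `𝓔xt¹(X, -) = 0` for `X` étale locally constant free
-/

set_option autoImplicit false
set_option linter.style.haveILetI false

universe u

open CategoryTheory CategoryTheory.Limits Opposite AlgebraicGeometry MonObj MonoidalCategory CartesianMonoidalCategory
open Groth.Agent.H4.BiextFibre Groth.Agent.H4.BiextExtn Groth.Agent.H4.BiextLocal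

noncomputable section

namespace Groth.Agent.Lib.ExtConst92

section Site

variable {C : Type (u + 1)} [Category.{u} C] {J : GrothendieckTopology C}
  [HasSheafify J AddCommGrpCat.{u + 1}]

/-- Cycles are locally boundaries in an exact complex of sheaves. -/
theorem locLift_of_exact {S : ShortComplex (Sheaf J AddCommGrpCat.{u + 1})} (h : S.Exact) {T : C}
    (y : S.X₂.obj.obj (op T)) (hy : S.g.hom.app (op T) y = 0) :
    ∃ R ∈ J T, ∀ ⦃T' : C⦄ (g : T' ⟶ T), R g →
      ∃ x, S.f.hom.app (op T') x = S.X₂.obj.map g.op y := by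
  haveI := S.exact_iff_epi_kernel_lift.1 h
  have hs : Sheaf.IsLocallySurjective (kernel.lift S.g S.f S.zero) :=
    (Sheaf.isLocallySurjective_iff_epi' AddCommGrpCat.{u + 1} _).2 inferInstance
  obtain ⟨a, ha⟩ := exists_section_lift (kernel.ι S.g) S.g (kernel.condition _)
    (kernelIsKernel _) T y hy
  refine ⟨_, hs.imageSieve_mem a, fun T' g ⟨x, hx⟩ => ⟨x, ?_⟩⟩
  have h1 := congrArg (fun m : S.X₁ ⟶ S.X₂ => m.hom.app (op T') x) (kernel.lift_ι S.g S.f S.zero)
  refine h1.symm.trans ?_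
  change (kernel.ι S.g).hom.app (op T') ((kernel.lift S.g S.f S.zero).hom.app (op T') x) = _
  rw [show (kernel.lift S.g S.f S.zero).hom.app (op T') x = (kernel S.g).obj.map g.op a from hx,
    natAb, ha]

/-- A complex of sheaves with locally liftable cycles is exact. -/
theorem exact_of_locLift {S : ShortComplex (Sheaf J AddCommGrpCat.{u + 1})}
    (h : ∀ (T : C) (y : S.X₂.obj.obj (op T)), S.g.hom.app (op T) y = 0 →
      ∃ R ∈ J T, ∀ ⦃T' : C⦄ (g : T' ⟶ T), R g →
        ∃ x, S.f.hom.app (op T') x = S.X₂.obj.map g.op y) : S.Exact := by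
  rw [S.exact_iff_epi_kernel_lift, ← Sheaf.isLocallySurjective_iff_epi' AddCommGrpCat.{u + 1}]
  refine ⟨fun {T} a => ?_⟩
  have hy : S.g.hom.app (op T) ((kernel.ι S.g).hom.app (op T) a) = 0 :=
    congr(($(kernel.condition S.g)).hom.app (op T) a)
  obtain ⟨R, hR, hx⟩ := h _ ((kernel.ι S.g).hom.app (op T) a) hy
  refine J.superset_covering (fun T' g hg => ?_) hR
  obtain ⟨x, hx⟩ := hx g hg
  refine ⟨x, injective_app (kernel.ι S.g) T' ?_⟩
  have h1 := congrArg (fun m : S.X₁ ⟶ S.X₂ => m.hom.app (op T') x) (kernel.lift_ι S.g S.f S.zero)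
  refine (h1.trans hx).trans ?_
  rw [natAb]

variable [HasInjectiveResolutions (Sheaf J AddCommGrpCat.{u + 1})]

theorem isZero_extSh_one (X G : Sheaf J AddCommGrpCat.{u + 1})
    (h : ∀ (A B D : Sheaf J AddCommGrpCat.{u + 1}) (f : A ⟶ B) (g : B ⟶ D) (w : f ≫ g = 0),
      (ShortComplex.mk f g w).Exact → ∀ (T : C) (φ : X.over T ⟶ B.over T),
      (∀ ⦃T' : C⦄ (p : T' ⟶ T) (x : X.obj.obj (op T')), g.hom.app (op T') (φ.hom.app (op (Over.mk p)) x) = 0) →
        ∃ R ∈ J T, ∀ ⦃T' : C⦄ (g : T' ⟶ T), R g → ∃ ψ : X.over T' ⟶ A.over T',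
          ∀ ⦃T'' : C⦄ (q : T'' ⟶ T') (x : X.obj.obj (op T'')),
            f.hom.app (op T'') (ψ.hom.app (op (Over.mk q)) x) = φ.hom.app (op (Over.mk (q ≫ g))) x) :
    IsZero ((HomSh.extSh J X 1).obj G) := by
  rw [HomSh.extSh_def]
  let I : InjectiveResolution G := HasInjectiveResolution.out.some
  refine IsZero.of_iso ?_ (I.isoRightDerivedObj (HomSh.homShFunctor J X) 1)
  rw [HomologicalComplex.homologyFunctor_obj, ← HomologicalComplex.exactAt_iff_isZero_homology,
    HomologicalComplex.exactAt_iff' _ 0 1 2 (by simp) (by simp)]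
  refine exact_of_locLift fun T φ hφ => ?_
  have he : (ShortComplex.mk (I.cocomplex.d 0 1) (I.cocomplex.d 1 2)
      (I.cocomplex.d_comp_d 0 1 2)).Exact :=
    (HomologicalComplex.exactAt_iff' _ 0 1 2 (by simp) (by simp)).1 (I.cocomplex_exactAt_succ 0)
  obtain ⟨R, hR, hψ⟩ := h _ _ _ _ _ _ he T φ fun T' p x => by
    exact congrArg (fun m : X.over T ⟶ (I.cocomplex.X 2).over T => m.hom.app (op (Over.mk p)) x) hφ
  refine ⟨R, hR, fun T' g hg => ?_⟩
  obtain ⟨ψ, hψ⟩ := hψ g hg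
  refine ⟨ψ, Sheaf.hom_ext (NatTrans.ext (funext fun V => AddCommGrpCat.ext fun x => ?_))⟩
  exact hψ V.unop.hom x

end Site

section Const

variable {S : Scheme.{u}}

theorem mem_of_etale {T : Over S} {I : Type*} (W : I → Over S) (g : ∀ i, W i ⟶ T)
    (hg : ∀ i, Etale (g i).left) (hsurj : ∀ t : T.left, ∃ i, t ∈ Set.range (g i).left.base) :
    Sieve.ofArrows W g ∈ QuotSh.J Scheme.fppfPrecoverage S T := by
  rw [GrothendieckTopology.mem_over_iff, Sieve.overEquiv_ofArrows]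
  refine Precoverage.generate_mem_toGrothendieck ((Scheme.ofArrows_mem_precoverage_iff _).2
    ⟨fun t => ?_, fun i => ?_⟩)
  · obtain ⟨i, w, hw⟩ := hsurj t
    exact ⟨i, w, hw⟩
  · haveI := hg i
    exact ⟨inferInstance, inferInstance⟩

variable (X : Over S) [GrpObj X] [IsCommMonObj X] {S' : Scheme.{u}} {f : S' ⟶ S} {r : ℕ}
  (e : Red.bc f X ≅ TwC.const S' (Multiplicative (Fin r → ℤ)))

/-- The points of the constant group. -/
def cpt {T : Over S} (W : Over S') (t : T ⟶ (Over.map f).obj W) (m : Fin r → ℤ) :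
    (CGrpSh.pts Scheme.fppfPrecoverage X).obj.obj (op T) :=
  ULift.up (Additive.ofMul (t ≫ RedPts.BC.down f
    (toUnit W ≫ TwC.pt S' _ (Multiplicative.ofAdd m) ≫ e.inv)))

theorem cpt_add (he : TwC.IsConstGrp (Multiplicative (Fin r → ℤ)) (Red.bc f X) e)
    {T : Over S} (W : Over S') (t : T ⟶ (Over.map f).obj W) (m n : Fin r → ℤ) :
    cpt X e W t (m + n) = cpt X e W t m + cpt X e W t n := by
  apply ULift.ext
  change Additive.ofMul _ = Additive.ofMul (_ * _)
  rw [ofAdd_add, ← he (Multiplicative.ofAdd m) (Multiplicative.ofAdd n), MonObj.comp_mul,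
    RedPts.BC.down_mul, MonObj.comp_mul]
  rfl

theorem etaleLocal_lift
    (he : TwC.IsConstGrp (Multiplicative (Fin r → ℤ)) (Red.bc f X) e)
    {A B D : BigSite.Ab Scheme.fppfPrecoverage S} (d : A ⟶ B) (d' : B ⟶ D) (w : d ≫ d' = 0)
    (hexact : (ShortComplex.mk d d' w).Exact) {T : Over S} (a : T.left ⟶ S') (ha : a ≫ f = T.hom)
    (φ : (CGrpSh.pts Scheme.fppfPrecoverage X).over T ⟶ B.over T)
    (hφ : ∀ ⦃T' : Over S⦄ (p : T' ⟶ T) (x : (CGrpSh.pts Scheme.fppfPrecoverage X).obj.obj (op T')),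
      d'.hom.app (op T') (φ.hom.app (op (Over.mk p)) x) = 0) :
    ∃ R ∈ QuotSh.J Scheme.fppfPrecoverage S T, ∀ ⦃T' : Over S⦄ (g : T' ⟶ T), R g →
      ∃ ψ : (CGrpSh.pts Scheme.fppfPrecoverage X).over T' ⟶ A.over T',
        ∀ ⦃T'' : Over S⦄ (q : T'' ⟶ T') (x : (CGrpSh.pts Scheme.fppfPrecoverage X).obj.obj (op T'')),
          d.hom.app (op T'') (ψ.hom.app (op (Over.mk q)) x) = φ.hom.app (op (Over.mk (q ≫ g))) x := by
  classical
  let W : Over S' := Over.mk a
  let t : T ⟶ (Over.map f).obj W := Over.homMk (𝟙 _) (by simp [W, ha])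
  let Q := CGrpSh.pts Scheme.fppfPrecoverage X
  let P : (Fin r → ℤ) →+ Q.obj.obj (op T) := AddMonoidHom.mk' (cpt X e W t) (cpt_add X e he W t)
  let y : Fin r → B.obj.obj (op T) := fun i => φ.hom.app (op (Over.mk (𝟙 T))) (P (Pi.single i 1))
  choose Ri hRi hxi using fun i => locLift_of_exact hexact (y i) (hφ (𝟙 T) _)
  refine ⟨(Finset.univ : Finset (Fin r)).inf Ri, ?_, fun T' g hg => ?_⟩
  · refine Finset.inf_induction (p := fun R => R ∈ QuotSh.J Scheme.fppfPrecoverage S T)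
      ((QuotSh.J Scheme.fppfPrecoverage S).top_mem T)
      (fun R hR R' hR' => (QuotSh.J Scheme.fppfPrecoverage S).intersection_covering hR hR') fun i _ => hRi i
  have hg' : ∀ i, Ri i g := fun i => (Finset.inf_le (f := Ri) (Finset.mem_univ i)) g hg
  choose b hb using fun i => hxi i g (hg' i)
  let P' : (Fin r → ℤ) →+ Q.obj.obj (op T') := (Q.obj.map g.op).hom.comp P
  let V : (Fin r → ℤ) →+ A.obj.obj (op T') :=
    AddMonoidHom.mk' (fun m => ∑ i, m i • b i) fun m n => by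
      simp only [Pi.add_apply, add_smul, Finset.sum_add_distrib]
  -- the value of `φ` on the constant points
  have hdV : ∀ m, d.hom.app (op T') (V m) = φ.hom.app (op (Over.mk g)) (P' m) := by
    let F₁ : (Fin r → ℤ) →+ B.obj.obj (op T') := (d.hom.app (op T')).hom.comp V
    let F₂ : (Fin r → ℤ) →+ B.obj.obj (op T') := (φ.hom.app (op (Over.mk g))).hom.comp P'
    suffices h : F₁ = F₂ from fun m => DFunLike.congr_fun h m
    refine AddMonoidHom.functions_ext' _ _ _ fun i => AddMonoidHom.ext_int ?_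
    change d.hom.app (op T') (V (Pi.single i 1)) = φ.hom.app (op (Over.mk g)) (P' (Pi.single i 1))
    have hV : V (Pi.single i 1) = b i := by
      change ∑ j, (Pi.single i (1 : ℤ) : Fin r → ℤ) j • b j = b i
      rw [Finset.sum_eq_single i (fun j _ hj => by rw [Pi.single_eq_of_ne hj, zero_smul]) (by simp),
        Pi.single_eq_same, one_smul]
    rw [hV, hb i]
    exact (NatTrans.naturality_apply φ.hom
      (Over.homMk g (Category.comp_id g) : Over.mk g ⟶ Over.mk (𝟙 T)).op (P (Pi.single i 1))).symm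
  -- every point is locally constant
  have hcov : ∀ ⦃T₁ : Over S⦄ (p : T₁ ⟶ T') (q : Q.obj.obj (op T₁)),
      ∃ R ∈ QuotSh.J Scheme.fppfPrecoverage S T₁, ∀ ⦃T₂ : Over S⦄ (h : T₂ ⟶ T₁), R h →
        ∃ m : Fin r → ℤ, Q.obj.map (h ≫ p).op (P' m) = Q.obj.map h.op q := by
    intro T₁ p q
    let W₁ : Over S' := Over.mk ((p ≫ g).left ≫ a)
    let t₁ : T₁ ⟶ (Over.map f).obj W₁ := Over.homMk (𝟙 _) (by simp [W₁, ha])
    let t₁' : (Over.map f).obj W₁ ⟶ T₁ := Over.homMk (𝟙 _) (by simp [W₁, ha])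
    let x₁ : W₁ ⟶ TwC.const S' (Multiplicative (Fin r → ℤ)) :=
      RedPts.BC.up f (t₁' ≫ (q : ULift.{u + 1} (Additive (T₁ ⟶ X))).down.toMul) ≫ e.hom
    let O : (Fin r → ℤ) → T₁.left.Opens := fun m =>
      x₁.left ⁻¹ᵁ (Sigma.ι (fun _ : Multiplicative (Fin r → ℤ) => S') (Multiplicative.ofAdd m)).opensRange
    let Om : ULift.{u} (Fin r → ℤ) → Over S := fun m => Over.mk ((O m.down).ι ≫ T₁.hom)
    let gm : ∀ m, Om m ⟶ T₁ := fun m => Over.homMk (O m.down).ι rfl
    refine ⟨Sieve.ofArrows Om gm, mem_of_etale Om gm (fun m => ?_) fun z => ?_, fun T₂ h hh => ?_⟩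
    · change Etale (O m.down).ι
      infer_instance
    · obtain ⟨m, z', hz⟩ := (by
        obtain ⟨i, z', hz⟩ := (sigmaOpenCover (fun _ : Multiplicative (Fin r → ℤ) => S')).exists_eq (x₁.left.base z)
        exact ⟨i, z', hz⟩ : ∃ (m : Multiplicative (Fin r → ℤ)) (z' : S'), (Sigma.ι (fun _ : Multiplicative (Fin r → ℤ) => S') m).base z' = x₁.left.base z)
      refine ⟨⟨m.toAdd⟩, ⟨z, ?_⟩, rfl⟩
      exact ⟨z', hz⟩
    obtain ⟨_, h', _, ⟨m⟩, rfl⟩ := hh
    refine ⟨m.down, ?_⟩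
    suffices hm : gm m ≫ t₁ ≫ RedPts.BC.down f (toUnit W₁ ≫ TwC.pt S' _ (Multiplicative.ofAdd m.down) ≫ e.inv) =
        gm m ≫ (q : ULift.{u + 1} (Additive (T₁ ⟶ X))).down.toMul by
      apply ULift.ext
      change Additive.ofMul ((((h' ≫ gm m) ≫ p)) ≫ g ≫ t ≫ RedPts.BC.down f _) =
        Additive.ofMul ((h' ≫ gm m) ≫ _)
      refine congrArg Additive.ofMul ?_
      rw [Category.assoc, Category.assoc, Category.assoc, ← hm]
      refine congrArg (h' ≫ gm m ≫ ·) ?_
      let k : W₁ ⟶ W := Over.homMk (p ≫ g).left rfl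
      have hk : p ≫ g ≫ t = t₁ ≫ (Over.map f).map k := by
        apply Over.OverMorphism.ext
        simp [t, t₁, k]
      rw [← Category.assoc g t, ← Category.assoc p, hk, Category.assoc, ← RedPts.BC.down_comp,
        comp_toUnit_assoc]
    have h1 : gm m ≫ (q : ULift.{u + 1} (Additive (T₁ ⟶ X))).down.toMul =
        gm m ≫ t₁ ≫ RedPts.BC.down f (x₁ ≫ e.inv) := by
      simp only [x₁, Category.assoc, Iso.hom_inv_id, Category.comp_id, RedPts.BC.down_up]
      rw [← Category.assoc t₁, show t₁ ≫ t₁' = 𝟙 T₁ from Over.OverMorphism.ext (Category.comp_id _),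
        Category.id_comp]
    rw [h1]
    apply Over.OverMorphism.ext
    simp only [Over.comp_left, RedPts.BC.down_left, t₁]
    change (O m.down).ι ≫ 𝟙 _ ≫ ((toUnit W₁).left ≫ _ ≫ _) ≫ _ = (O m.down).ι ≫ 𝟙 _ ≫ (x₁.left ≫ _) ≫ _
    simp only [Category.id_comp, ← Category.assoc]
    congr 2
    -- on the component the point is constant
    let σ := Sigma.ι (fun _ : Multiplicative (Fin r → ℤ) => S') (Multiplicative.ofAdd m.down)
    let l : (O m.down : Scheme.{u}) ⟶ S' := IsOpenImmersion.lift σ ((O m.down).ι ≫ x₁.left) (by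
      rintro _ ⟨z, rfl⟩
      exact z.2)
    have hl : l ≫ σ = (O m.down).ι ≫ x₁.left := IsOpenImmersion.lift_fac _ _ _
    have hl' : (O m.down).ι ≫ W₁.hom = l := by
      rw [← Over.w x₁, ← Category.assoc, ← hl, Category.assoc]
      change l ≫ σ ≫ Sigma.desc (fun _ => 𝟙 S') = l
      rw [Sigma.ι_desc, Category.comp_id]
    rw [← hl, ← hl']
    simp [TwC.pt, σ]
  -- a point is constant of one type only
  have huniq : ∀ ⦃T₁ : Over S⦄ (p : T₁ ⟶ T') (m n : Fin r → ℤ),
      Q.obj.map p.op (P' m) = Q.obj.map p.op (P' n) → A.obj.map p.op (V m) = A.obj.map p.op (V n) := by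
    intro T₁ p m n h
    rcases isEmpty_or_nonempty T₁.left with hE | ⟨⟨z⟩⟩
    · refine sepAb (R := Sieve.ofArrows (fun i : PEmpty.{u + 1} => (i.elim : Over S)) fun i => i.elim)
        (mem_of_etale _ _ (fun i => i.elim) fun z => isEmptyElim z) fun T₂ g₂ hg₂ => ?_
      obtain ⟨_, _, _, ⟨i⟩, _⟩ := hg₂
      exact i.elim
    · suffices m = n by rw [this]
      let W₁ : Over S' := Over.mk ((p ≫ g).left ≫ a)
      let t₁ : T₁ ⟶ (Over.map f).obj W₁ := Over.homMk (𝟙 _) (by simp [W₁, ha])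
      let k : W₁ ⟶ W := Over.homMk (p ≫ g).left rfl
      have hk : p ≫ g ≫ t = t₁ ≫ (Over.map f).map k := by
        apply Over.OverMorphism.ext
        simp [t, t₁, k]
      haveI : IsIso t₁ := ⟨Over.homMk (𝟙 _) (by simp [W₁, ha]),
        Over.OverMorphism.ext (Category.comp_id _), Over.OverMorphism.ext (Category.comp_id _)⟩
      have h1 := congrArg (fun v : ULift.{u + 1} (Additive (T₁ ⟶ X)) => v.down.toMul) h
      change p ≫ g ≫ t ≫ RedPts.BC.down f _ = p ≫ g ≫ t ≫ RedPts.BC.down f _ at h1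
      rw [← Category.assoc g t, ← Category.assoc p, hk, Category.assoc, ← RedPts.BC.down_comp,
        ← Category.assoc g t, ← Category.assoc p, hk, Category.assoc, ← RedPts.BC.down_comp,
        cancel_epi] at h1
      have h2 := RedPts.BC.down_injective h1
      rw [comp_toUnit_assoc, comp_toUnit_assoc, ← Category.assoc, ← Category.assoc, cancel_mono] at h2
      have h3 := congrArg (fun v : W₁ ⟶ TwC.const S' (Multiplicative (Fin r → ℤ)) => v.left.base z) h2
      simp only [TwC.pt, Over.comp_left, Over.homMk_left, Scheme.Hom.comp_apply] at h3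
      by_contra hne
      exact hne (Multiplicative.ofAdd.injective (congrArg Sigma.fst ((sigmaι_eq_iff _ _ _ _ _).1 h3)))
  obtain ⟨ψ, hψ⟩ := descend (Q := Q) A (T := T') (fun _ _ => ULift.{u + 1} (Fin r → ℤ))
    (fun T₁ p m => Q.obj.map p.op (P' m.down)) (fun T₁ T₂ h p m => m)
    (fun T₁ T₂ h p m => mapAb_comp_apply h p (P' m.down))
    (fun T₁ p m => A.obj.map p.op (V m.down))
    (fun T₁ T₂ h p m => (mapAb_comp_apply h p (V m.down)).symm)
    (fun T₁ p m n h => huniq p m.down n.down h)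
    (fun T₁ p m n => ⟨⟨m.down + n.down⟩, by rw [map_add, map_add], by rw [map_add, map_add]⟩)
    (fun T₁ p q => by
      obtain ⟨R, hR, hm⟩ := hcov p q
      exact ⟨R, hR, fun T₂ h hh => ⟨⟨(hm h hh).choose⟩, (hm h hh).choose_spec⟩⟩)
  refine ⟨ψ, fun T₁ p q => ?_⟩
  obtain ⟨R, hR, hm⟩ := hcov p q
  refine sepAb hR fun T₂ h hh => ?_
  obtain ⟨m, hm⟩ := hm h hh
  have n1 := NatTrans.naturality_apply ψ.hom (Over.homMk h rfl : Over.mk (h ≫ p) ⟶ Over.mk p).op q
  have n2 := NatTrans.naturality_apply φ.hom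
    (Over.homMk h (Category.assoc _ _ _).symm : Over.mk ((h ≫ p) ≫ g) ⟶ Over.mk (p ≫ g)).op q
  have n3 := NatTrans.naturality_apply φ.hom
    (Over.homMk (h ≫ p) rfl : Over.mk ((h ≫ p) ≫ g) ⟶ Over.mk g).op (P' m)
  refine (natAb d h _).symm.trans ?_
  refine (congrArg (d.hom.app (op T₂)) n1.symm).trans (Eq.trans ?_ n2)
  change d.hom.app (op T₂) (ψ.hom.app (op (Over.mk (h ≫ p))) (Q.obj.map h.op q)) =
    φ.hom.app (op (Over.mk ((h ≫ p) ≫ g))) (Q.obj.map h.op q)
  rw [← hm]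
  refine (congrArg (d.hom.app (op T₂)) (hψ (h ≫ p) ⟨m⟩)).trans ?_
  rw [natAb, hdV]
  exact n3.symm

theorem isZero (X P : Over S) [GrpObj X] [IsCommMonObj X] [GrpObj P] [IsCommMonObj P]
    (hX : TwC.Locally S TwC.Topology.etale (fun S' f =>
      ∃ (r : ℕ) (e : Red.bc f X ≅ TwC.const S' (Multiplicative (Fin r → ℤ))),
        TwC.IsConstGrp (Multiplicative (Fin r → ℤ)) (Red.bc f X) e)) :
    IsZero ((HomSh.extSh (QuotSh.J Scheme.fppfPrecoverage S) (CGrpSh.pts Scheme.fppfPrecoverage X) 1).obj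
      (CGrpSh.pts Scheme.fppfPrecoverage P)) := by
  refine isZero_extSh_one _ _ fun A B D d d' w hexact T φ hφ => ?_
  choose S' f hf hs r e he using hX
  let Ts : S → Over S := fun s => Over.mk (pullback.fst T.hom (f s) ≫ T.hom)
  let gs : ∀ s, Ts s ⟶ T := fun s => Over.homMk (pullback.fst T.hom (f s)) rfl
  have hcover : Sieve.ofArrows Ts gs ∈ QuotSh.J Scheme.fppfPrecoverage S T := by
    refine mem_of_etale Ts gs (fun s => ?_) fun z => ?_
    · haveI := hf s
      change Etale (pullback.fst T.hom (f s))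
      infer_instance
    · obtain ⟨z', hz'⟩ := hs (T.hom.base z)
      obtain ⟨v, hv, -⟩ := Scheme.Pullback.exists_preimage_pullback z z' hz'.symm
      exact ⟨T.hom.base z, v, hv⟩
  -- on each member the character is lifted
  have key : ∀ s, ∃ R ∈ QuotSh.J Scheme.fppfPrecoverage S (Ts s), ∀ ⦃T' : Over S⦄ (g : T' ⟶ Ts s), R g →
      ∃ ψ : (CGrpSh.pts Scheme.fppfPrecoverage X).over T' ⟶ A.over T',
        ∀ ⦃T'' : Over S⦄ (q : T'' ⟶ T') (x : (CGrpSh.pts Scheme.fppfPrecoverage X).obj.obj (op T'')),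
          d.hom.app (op T'') (ψ.hom.app (op (Over.mk q)) x) = φ.hom.app (op (Over.mk (q ≫ g ≫ gs s))) x := by
    intro s
    let φs : (CGrpSh.pts Scheme.fppfPrecoverage X).over (Ts s) ⟶ B.over (Ts s) :=
      ⟨{ app := fun V => φ.hom.app (op ((Over.map (gs s)).obj V.unop))
         naturality := fun V V' h => φ.hom.naturality ((Over.map (gs s)).map h.unop).op }⟩
    obtain ⟨R, hR, hψ⟩ := etaleLocal_lift X (e s) (he s) d d' w hexact (pullback.snd T.hom (f s))
      pullback.condition.symm φs fun T' p x => hφ (p ≫ gs s) x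
    refine ⟨R, hR, fun T' g hg => ?_⟩
    obtain ⟨ψ, hψ⟩ := hψ g hg
    exact ⟨ψ, fun T'' q x => (hψ q x).trans
      (HomSh.app_over_mk_congr _ φ (Category.assoc q g (gs s)) x)⟩
  choose R hR hψ using key
  refine ⟨Sieve.bind (Sieve.ofArrows Ts gs).arrows fun {Y h} (hh : Sieve.ofArrows Ts gs h) =>
      (R (Sieve.ofArrows.i hh)).pullback (Sieve.ofArrows.h hh),
    GrothendieckTopology.bind_covering _ hcover fun Y h hh => (QuotSh.J Scheme.fppfPrecoverage S).pullback_stable _ (hR _),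
    fun T' g hg => ?_⟩
  obtain ⟨Y, h₁, h₂, hh, hR', rfl⟩ := hg
  obtain ⟨ψ, hψ'⟩ := hψ _ (h₁ ≫ Sieve.ofArrows.h hh) hR'
  refine ⟨ψ, fun T'' q x => (hψ' q x).trans (HomSh.app_over_mk_congr _ φ ?_ x)⟩
  rw [Category.assoc, Sieve.ofArrows.fac hh]

end Const

end Groth.Agent.Lib.ExtConst92
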